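import Mathlib.RingTheory.Flat.FaithfullyFlat.Basic
import Mathlib.RingTheory.Finiteness.Projective
import Mathlib.RingTheory.LocalRing.ResidueField.Ideal
import Mathlib.RingTheory.LocalRing.Module
import Mathlib.RingTheory.Nakayama
import Mathlib.LinearAlgebra.Matrix.NonsingularInverse
import Mathlib.LinearAlgebra.Matrix.Adjugate
import Mathlib.Algebra.Module.LocalizedModule.Basic
import Mathlib.LinearAlgebra.Dual.Lemmas
import Mathlib.RingTheory.Spectrum.Prime.Topology

/-!
# Left invertible maps into projective modules (EGA 0_IV 19.1)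
-/

universe u

namespace Groth.Agent.LeftInv.Basic

open TensorProduct

/-- Among finitely supported vectors with independent images, some minor does not vanish. -/
theorem exists_minor {R : Type*} {K : Type*} [CommRing R] [Field K] [Algebra R K] {I : Type*}
    {m : ℕ} (v : Fin m → (I →₀ R))
    (hv : LinearIndependent K fun j => (v j).mapRange (algebraMap R K) (map_zero _)) :
    ∃ c : Fin m → I, algebraMap R K (Matrix.det (Matrix.of fun i j => v j (c i))) ≠ 0 := by
  classical
  let col : I → (Fin m → K) := fun c j => algebraMap R K (v j c)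
  have hspan : Submodule.span K (Set.range col) = ⊤ := by
    by_contra hne
    obtain ⟨φ, hφ0, hφ⟩ := Submodule.exists_dual_map_eq_bot_of_lt_top
      (lt_top_iff_ne_top.mpr hne) inferInstance
    have hzero : ∀ c, φ (col c) = 0 := fun c => by
      rw [← Submodule.mem_bot K, ← hφ]
      exact Submodule.mem_map_of_mem (Submodule.subset_span ⟨c, rfl⟩)
    have hcoef := Fintype.linearIndependent_iff.mp hv (fun j => φ (Pi.single j 1)) (by
      ext c
      have h := hzero c
      rw [pi_eq_sum_univ' (col c), map_sum] at h
      simp only [map_smul, smul_eq_mul] at h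
      simpa [col, Finsupp.finsetSum_apply, mul_comm] using h)
    exact hφ0 (LinearMap.pi_ext' fun j => LinearMap.ext_ring (by simpa using hcoef j))
  obtain ⟨b, hsub, hbspan, hbli⟩ := exists_linearIndependent K (Set.range col)
  rw [hspan] at hbspan
  let bb := Module.Basis.mk hbli (by rw [Subtype.range_coe]; exact hbspan.ge)
  let e := bb.indexEquiv (Pi.basisFun K (Fin m))
  choose c hc using fun i : Fin m => hsub (e.symm i).2
  refine ⟨c, ?_⟩
  rw [RingHom.map_det]
  refine IsUnit.ne_zero ((Matrix.isUnit_iff_isUnit_det _).mp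
    (Matrix.linearIndependent_rows_iff_isUnit.mp ?_))
  have hrow : ∀ i, ((algebraMap R K).mapMatrix (Matrix.of fun i j => v j (c i))).row i = (e.symm i : Fin m → K) :=
    fun i => by rw [← hc i]; rfl
  rw [show ((algebraMap R K).mapMatrix (Matrix.of fun i j => v j (c i))).row =
    ((↑) : b → Fin m → K) ∘ e.symm from funext hrow]
  exact hbli.comp _ e.symm.injective

variable {A : Type*} [CommRing A] {M N : Type*} [AddCommGroup M] [Module A M] [AddCommGroup N]
  [Module A N]

/-- Functionals with a non-vanishing determinant on a family with independent images. -/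
theorem exists_functionals [Module.Projective A N] (κ : Type*) [Field κ] [Algebra A κ] {m : ℕ}
    (y : Fin m → N) (hy : LinearIndependent κ fun j => (1 : κ) ⊗ₜ[A] y j) :
    ∃ g : Fin m → N →ₗ[A] A, algebraMap A κ (Matrix.det (Matrix.of fun i j => g i (y j))) ≠ 0 := by
  classical
  obtain ⟨sec, hsec⟩ := (Module.projective_lifting_property
    (Finsupp.linearCombination A (id : N → N)) LinearMap.id
    (Finsupp.linearCombination_surjective A Function.surjective_id))
  have hli : LinearIndependent κ fun j => (sec (y j)).mapRange (algebraMap A κ) (map_zero _) := by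
    let Φ : κ ⊗[A] N →ₗ[κ] (N →₀ κ) :=
      LinearMap.liftBaseChange κ ((Finsupp.mapRange.linearMap (Algebra.linearMap A κ)) ∘ₗ sec)
    let Ψ : (N →₀ κ) →ₗ[κ] κ ⊗[A] N := Finsupp.linearCombination κ fun n => (1 : κ) ⊗ₜ[A] n
    have hinv : ∀ t, Ψ (Φ t) = t := by
      intro t
      induction t with
      | zero => simp
      | add a b ha hb => rw [map_add, map_add, ha, hb]
      | tmul r n =>
        have h1 : ∀ z : N →₀ A, Ψ (z.mapRange (algebraMap A κ) (map_zero _)) =
            (1 : κ) ⊗ₜ[A] Finsupp.linearCombination A (id : N → N) z := by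
          intro z
          induction z using Finsupp.induction_linear with
          | zero => simp
          | add a b ha hb =>
            rw [Finsupp.mapRange_add' _ _, map_add, ha, hb, map_add, tmul_add]
          | single n a =>
            simp only [Ψ, Finsupp.mapRange_single, Finsupp.linearCombination_single, id]
            rw [algebraMap_smul, ← TensorProduct.tmul_smul]
        have h2 : Finsupp.linearCombination A (id : N → N) (sec n) = n := DFunLike.congr_fun hsec n
        show Ψ (r • (sec n).mapRange (algebraMap A κ) (map_zero _)) = _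
        rw [map_smul, h1, h2, TensorProduct.smul_tmul', smul_eq_mul, mul_one]
    have hΦ : LinearMap.ker Φ = ⊥ :=
      LinearMap.ker_eq_bot.mpr (Function.LeftInverse.injective hinv)
    have := hy.map' Φ hΦ
    rw [show (Φ ∘ fun j => (1 : κ) ⊗ₜ[A] y j) =
      fun j => (sec (y j)).mapRange (algebraMap A κ) (map_zero _) from funext fun j => by
        simp [Φ, Finsupp.mapRange.linearMap]; rfl] at this
    exact this
  obtain ⟨c, hc⟩ := exists_minor (fun j => sec (y j)) hli
  exact ⟨fun i => (Finsupp.lapply (c i)).comp sec, hc⟩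

/-- Elements of a finite module whose images span the fibre at `p` generate it near `p`. -/
theorem exists_smul_mem_span [Module.Finite A M] (p : Ideal A) [p.IsPrime] {ι : Type*}
    (x : ι → M) (hx : Submodule.span p.ResidueField (Set.range fun i => (1 : p.ResidueField) ⊗ₜ[A] x i) = ⊤) :
    ∃ s ∉ p, ∀ z : M, s • z ∈ Submodule.span A (Set.range x) := by
  set S := Submodule.span A (Set.range x)
  have hsub : Subsingleton (p.ResidueField ⊗[A] (M ⧸ S)) := by
    refine subsingleton_of_forall_eq 0 fun t => ?_
    obtain ⟨t, rfl⟩ := LinearMap.lTensor_surjective p.ResidueField S.mkQ_surjective t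
    have ht : t ∈ Submodule.span p.ResidueField (Set.range fun i => (1 : p.ResidueField) ⊗ₜ[A] x i) :=
      hx ▸ Submodule.mem_top
    show (S.mkQ.baseChange p.ResidueField) t = 0
    induction ht using Submodule.span_induction with
    | mem y hy =>
      obtain ⟨i, rfl⟩ := hy
      rw [LinearMap.baseChange_tmul, Submodule.mkQ_apply,
        (Submodule.Quotient.mk_eq_zero S).mpr (Submodule.subset_span ⟨i, rfl⟩), tmul_zero]
    | zero => exact map_zero _
    | add a b _ _ ha hb => rw [map_add, ha, hb, add_zero]
    | smul r a _ ha => rw [map_smul, ha, smul_zero]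
  have hloc : Subsingleton (LocalizedModule p.primeCompl (M ⧸ S)) := by
    have hloc' : Subsingleton (Localization.AtPrime p ⊗[A] (M ⧸ S)) := by
      have : Subsingleton ((IsLocalRing.ResidueField (Localization.AtPrime p)) ⊗[Localization.AtPrime p]
          (Localization.AtPrime p ⊗[A] (M ⧸ S))) :=
        (AlgebraTensorModule.cancelBaseChange A (Localization.AtPrime p) (Localization.AtPrime p)
          (IsLocalRing.ResidueField (Localization.AtPrime p)) (M ⧸ S)).toEquiv.subsingleton
      exact IsLocalRing.subsingleton_tensorProduct.mp this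
    exact ((IsLocalizedModule.isBaseChange p.primeCompl (Localization.AtPrime p)
      (LocalizedModule.mkLinearMap p.primeCompl (M ⧸ S))).equiv.symm.toEquiv).subsingleton
  obtain ⟨s, hs⟩ : ∃ s : p.primeCompl, ∀ z ∈ (⊤ : Submodule A (M ⧸ S)), (s : A) • z = 0 := by
    obtain ⟨T, hT⟩ := (Module.Finite.fg_top : (⊤ : Submodule A (M ⧸ S)).FG)
    have hkill : ∀ z : M ⧸ S, ∃ s : p.primeCompl, (s : A) • z = 0 := fun z => by
      have h := Subsingleton.elim (LocalizedModule.mkLinearMap p.primeCompl (M ⧸ S) z) 0
      exact (IsLocalizedModule.eq_zero_iff p.primeCompl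
        (LocalizedModule.mkLinearMap p.primeCompl (M ⧸ S))).mp h
    choose s hs using hkill
    refine ⟨∏ z ∈ T, s z, fun z hz => ?_⟩
    rw [← hT] at hz
    classical
    induction hz using Submodule.span_induction with
    | mem y hy =>
      rw [← Finset.prod_erase_mul _ _ hy, Submonoid.coe_mul, mul_smul, hs, smul_zero]
    | zero => exact smul_zero _
    | add a b _ _ ha hb => rw [smul_add, ha, hb, add_zero]
    | smul r a _ ha => rw [smul_comm, ha, smul_zero]
  refine ⟨s, s.2, fun z => ?_⟩
  rw [← Submodule.Quotient.mk_eq_zero, Submodule.Quotient.mk_smul]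
  exact hs _ Submodule.mem_top

/-- The adjugate gives a left inverse up to the determinant on the span. -/
theorem exists_adjugate_map (u : M →ₗ[A] N) {m : ℕ} (x : Fin m → M) (g : Fin m → N →ₗ[A] A) :
    ∃ w : N →ₗ[A] M, ∀ y ∈ Submodule.span A (Set.range x),
      w (u y) = (Matrix.of fun i j => g i (u (x j))).det • y := by
  classical
  set G := Matrix.of fun i j => g i (u (x j)) with hG
  let w₀ : N →ₗ[A] M := ∑ i, (∑ k, G.adjugate i k • g k).smulRight (x i)
  have hw₀ : ∀ j, w₀ (u (x j)) = G.det • x j := by
    intro j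
    have hent : ∀ i, (∑ k, G.adjugate i k * g k (u (x j))) = (G.adjugate * G) i j := fun i => by
      rw [Matrix.mul_apply]; rfl
    simp only [w₀, LinearMap.sum_apply, LinearMap.smulRight_apply, LinearMap.smul_apply,
      smul_eq_mul, hent, Matrix.adjugate_mul]
    rw [Finset.sum_eq_single j (fun i _ hij => by simp [hij]) (by simp)]
    simp
  refine ⟨w₀, fun y hy => ?_⟩
  induction hy using Submodule.span_induction with
  | mem y hy => obtain ⟨j, rfl⟩ := hy; exact hw₀ j
  | zero => simp
  | add a b _ _ ha hb => rw [map_add, map_add, ha, hb, smul_add]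
  | smul r a _ ha => rw [map_smul, map_smul, ha, smul_comm]

variable [Module.Finite A M]

/-- A minimal generating family at a prime. -/
theorem exists_basis_residueField (p : Ideal A) [p.IsPrime] :
    ∃ (m : ℕ) (x : Fin m → M),
      LinearIndependent p.ResidueField (fun i => (1 : p.ResidueField) ⊗ₜ[A] x i) ∧
        Submodule.span p.ResidueField (Set.range fun i => (1 : p.ResidueField) ⊗ₜ[A] x i) = ⊤ := by
  set κ := p.ResidueField
  let emb : M → κ ⊗[A] M := fun z => (1 : κ) ⊗ₜ[A] z
  have hall : Submodule.span κ (Set.range emb) = ⊤ := by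
    rw [eq_top_iff]
    intro t _
    induction t with
    | zero => exact Submodule.zero_mem _
    | add a b ha hb => exact Submodule.add_mem _ (ha trivial) (hb trivial)
    | tmul r z =>
      have : r ⊗ₜ[A] z = r • emb z := by simp [emb, TensorProduct.smul_tmul']
      exact this ▸ Submodule.smul_mem _ _ (Submodule.subset_span ⟨z, rfl⟩)
  obtain ⟨b, hsub, hbspan, hbli⟩ := exists_linearIndependent κ (Set.range emb)
  rw [hall] at hbspan
  let bb := Module.Basis.mk hbli (by rw [Subtype.range_coe]; exact hbspan.ge)
  let e := bb.indexEquiv (Module.finBasis κ (κ ⊗[A] M))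
  choose x hx using fun i => hsub (e.symm i).2
  refine ⟨_, x, ?_, ?_⟩
  · rw [show (fun i => (1 : κ) ⊗ₜ[A] x i) = ((↑) : b → κ ⊗[A] M) ∘ e.symm from funext hx]
    exact hbli.comp _ e.symm.injective
  · rw [show (fun i => (1 : κ) ⊗ₜ[A] x i) = ((↑) : b → κ ⊗[A] M) ∘ e.symm from funext hx,
      Set.range_comp, e.symm.range_eq_univ, Set.image_univ, Subtype.range_coe]
    exact hbspan

/-- Fibrewise injectivity at `p` gives a left inverse up to an element outside `p`. -/
theorem exists_smul_eq [Module.Projective A N] (u : M →ₗ[A] N) (p : Ideal A) [p.IsPrime]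
    (hinj : Function.Injective (u.lTensor p.ResidueField)) :
    ∃ f ∉ p, ∃ w : N →ₗ[A] M, ∀ z, w (u z) = f • z := by
  classical
  obtain ⟨m, x, hli, hspan⟩ := exists_basis_residueField (M := M) p
  have hy : LinearIndependent p.ResidueField fun j => (1 : p.ResidueField) ⊗ₜ[A] u (x j) :=
    hli.map' (u.baseChange p.ResidueField) (LinearMap.ker_eq_bot.mpr hinj)
  obtain ⟨g, hg⟩ := exists_functionals p.ResidueField (fun j => u (x j)) hy
  obtain ⟨s, hs, hsx⟩ := exists_smul_mem_span p x hspan
  set G := Matrix.of fun i j => g i (u (x j)) with hG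
  have hd : G.det ∉ p := fun h => hg (Ideal.algebraMap_residueField_eq_zero.mpr h)
  obtain ⟨w₀, hlin⟩ := exists_adjugate_map u x g
  refine ⟨G.det * s, fun h => (‹p.IsPrime›.mem_or_mem h).elim hd hs, s • w₀, fun z => ?_⟩
  rw [LinearMap.smul_apply, ← map_smul, ← map_smul, hlin _ (hsx z), mul_smul]

omit [Module.Finite A M] in
/-- Localizing an approximate left inverse. -/
theorem exists_localized_leftInverse (S : Submonoid A) {f : A} (hf : f ∈ S) (u : M →ₗ[A] N)
    (w : N →ₗ[A] M) (hw : ∀ z, w (u z) = f • z) :
    ∃ w' : LocalizedModule S N →ₗ[A] LocalizedModule S M,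
      w' ∘ₗ (LocalizedModule.map S u).restrictScalars A = LinearMap.id := by
  refine ⟨((Localization.mk 1 ⟨f, hf⟩ : Localization S) • LocalizedModule.map S w).restrictScalars A, ?_⟩
  refine LinearMap.ext fun z => ?_
  induction z using LocalizedModule.induction_on with
  | _ m s =>
    simp only [LinearMap.comp_apply, LinearMap.restrictScalars_apply, LinearMap.smul_apply, LocalizedModule.map_mk, hw,
      LocalizedModule.mk_smul_mk, LinearMap.id_apply, one_smul]
    rw [LocalizedModule.mk_eq]
    refine ⟨1, ?_⟩
    simp only [Submonoid.smul_def, OneMemClass.coe_one, one_smul, Submonoid.coe_mul]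
    rw [mul_comm, mul_smul]

omit [Module.Finite A M] in
/-- A left inverse after localizing gives fibrewise injectivity. -/
theorem injective_of_localized (u : M →ₗ[A] N) (p : Ideal A) [p.IsPrime]
    (S : Submonoid A) (hS : S ≤ p.primeCompl)
    (w : LocalizedModule S N →ₗ[A] LocalizedModule S M)
    (hw : w ∘ₗ (LocalizedModule.map S u).restrictScalars A = LinearMap.id) :
    Function.Injective (u.lTensor p.ResidueField) := by
  let ι : LocalizedModule S M →ₗ[A] p.ResidueField ⊗[A] M :=
    LocalizedModule.lift S ((TensorProduct.mk A p.ResidueField M) 1) fun s => by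
      rw [Module.End.isUnit_iff]
      have hs : algebraMap A p.ResidueField (s : A) ≠ 0 := fun h =>
        (hS s.2) (Ideal.algebraMap_residueField_eq_zero.mp h)
      have he : ∀ t : p.ResidueField ⊗[A] M, (algebraMap A (Module.End A (p.ResidueField ⊗[A] M)) (s : A)) t =
          algebraMap A p.ResidueField (s : A) • t := fun t => by
        rw [Module.algebraMap_end_apply, algebraMap_smul]
      refine ⟨fun a b hab => ?_, fun t => ⟨(algebraMap A p.ResidueField (s : A))⁻¹ • t, ?_⟩⟩
      · rw [he, he] at hab
        exact smul_right_injective _ hs hab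
      · rw [he, smul_smul, mul_inv_cancel₀ hs, one_smul]
  let L : p.ResidueField ⊗[A] N →ₗ[p.ResidueField] p.ResidueField ⊗[A] M :=
    LinearMap.liftBaseChange _ (ι ∘ₗ w ∘ₗ LocalizedModule.mkLinearMap S N)
  refine Function.LeftInverse.injective (g := L) fun t => ?_
  induction t with
  | zero => simp
  | add a b ha hb => rw [map_add, map_add, ha, hb]
  | tmul r z =>
    have h1 : w (LocalizedModule.mk (u z) 1) = LocalizedModule.mk z 1 := by
      simpa [LocalizedModule.map_mk] using DFunLike.congr_fun hw (LocalizedModule.mk z 1)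
    have h2 : ι (LocalizedModule.mk z 1) = (1 : p.ResidueField) ⊗ₜ[A] z := by
      simp only [ι, LocalizedModule.lift_mk]
      rw [Module.End.algebraMap_isUnit_inv_apply_eq_iff]
      simp
    rw [LinearMap.lTensor_tmul]
    simp only [L, LinearMap.liftBaseChange_tmul, LinearMap.comp_apply,
      LocalizedModule.mkLinearMap_apply, h1, h2, TensorProduct.smul_tmul', smul_eq_mul, mul_one]

omit [Module.Finite A M] in
/-- Local left inverses glue. -/
theorem exists_leftInverse_of_forall (u : M →ₗ[A] N)
    (h : ∀ m : Ideal A, m.IsMaximal → ∃ f ∉ m, ∃ w : N →ₗ[A] M, ∀ z, w (u z) = f • z) :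
    ∃ w : N →ₗ[A] M, w ∘ₗ u = LinearMap.id := by
  let I : Ideal A :=
    { carrier := {f | ∃ w : N →ₗ[A] M, ∀ z, w (u z) = f • z}
      add_mem' := fun ⟨w, hw⟩ ⟨w', hw'⟩ => ⟨w + w', fun z => by
        rw [LinearMap.add_apply, hw, hw', add_smul]⟩
      zero_mem' := ⟨0, fun z => by simp⟩
      smul_mem' := fun a _ ⟨w, hw⟩ => ⟨a • w, fun z => by
        rw [LinearMap.smul_apply, hw, smul_eq_mul, mul_smul]⟩ }
  have hI : I = ⊤ := by
    by_contra hne
    obtain ⟨m, hm, hle⟩ := Ideal.exists_le_maximal I hne
    obtain ⟨f, hf, hw⟩ := h m hm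
    exact hf (hle hw)
  obtain ⟨w, hw⟩ := (show (1 : A) ∈ I from hI ▸ Submodule.mem_top)
  exact ⟨w, LinearMap.ext fun z => by simpa using hw z⟩

end Groth.Agent.LeftInv.Basic
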